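import Cfsg.Agent.H67.RC.RowOdd
import Cfsg.Agent.H385.RC.Even

/-!
# S3510: the row `PSp_{2m}(q)` (helper67)
-/

set_option autoImplicit false
open Cfsg

namespace Cfsg.Agent.H67.RC

open Cfsg.Agent.H106.RC

/-- **row D of S3510**: the symplectic groups -/
theorem row_psp : Row (fun S _ => IsPSp S) := by
  intro S _ _ hS hn hP _ hIH
  obtain ⟨F, _, _, m, hm, h2, ⟨e⟩⟩ := hP
  by_cases h : (2 : F) = 0
  · have hf : Finite (PSp m F) := Finite.of_equiv S e.toEquiv
    have hS' : IsSimpleGroup (PSp m F) := isSimple_cgr0 e hS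
    have hn' : ¬ IsMulCommutative (PSp m F) := by
      intro hc
      apply hn
      constructor
      constructor
      intro a b
      apply e.injective
      rw [map_mul, map_mul, hc.is_comm.comm]
    refine RC.congr e.symm (rc_of_noCov hS' hn'
      (Cfsg.Agent.H385.RC.noCov_even hm h (fun hm2 => ?_) ?_ Cfsg.Agent.H916.RC.rce_A6))
    · rw [Nat.card_eq_fintype_card]
      exact h2 hm2
    · rwa [← Nat.card_congr e.toEquiv]
  · exact row_psp_odd S hS hn m hm F h e hIH

end Cfsg.Agent.H67.RC
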