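import Cfsg.Agent.H380.RC.Rules

/-!
# S3510: covers and an abelian subgroup, members of arbitrary order prime to `|U|` (helper67)

* `cover_ab` : `U` abelian, normalised by the commuting `x i` of orders `n i` prime to `|U|` (the `n i` need not be primes and
  need not be different); if every point of `U ω` is fixed by some `x i`, then some `x i` fixes all the points of `U ω`;
* `not_cov_ab` : if moreover the `x i` cover `Ω` and `y ≠ 1` is in `[U, x i]` for all `i`: contradiction;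
* `lr_ab` : the same for the points without a `U`-invariant property `P`.
-/

set_option autoImplicit false

namespace Cfsg.Agent.H67.RC

open MulAction Cfsg.Agent.H202.RC Cfsg.Agent.H380.RC Cfsg.Agent.H106.RC

section moved

variable {U D ι : Type*} [CommGroup U] [Finite U] [MulAction U D] {x : ι → Equiv.Perm D} {α : ι → MulAut U} {n : ι → ℕ}

/-- the abelian case, arbitrary orders -/
theorem exists_moved_ab [Finite ι] [Nonempty D] (hcomm : ∀ i j d, x i (x j d) = x j (x i d))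
    (hacomm : ∀ i j u, α i (α j u) = α j (α i u)) (hact : ∀ i u d, x i (u • d) = α i u • x i d)
    (hapow : ∀ i, α i ^ n i = 1) (htr : ∀ d d' : D, ∃ u : U, u • d = d')
    (hco : ∀ i, (n i).Coprime (Nat.card U)) (hne : ∀ i, ∃ d, x i d ≠ d) : ∃ d, ∀ i, x i d ≠ d := by
  classical
  set A : Set ℕ := {k : ℕ | ∃ d : D, k = Set.ncard {i | x i d ≠ d}} with hA
  have hbd : BddAbove A := by
    refine ⟨Nat.card ι, ?_⟩
    rintro k ⟨d, rfl⟩
    exact Set.ncard_le_card _
  have hAn : A.Nonempty := ⟨_, Classical.arbitrary D, rfl⟩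
  obtain ⟨d, hn⟩ := Nat.sSup_mem hAn hbd
  refine ⟨d, ?_⟩
  by_contra hcon
  push Not at hcon
  obtain ⟨i, hi⟩ := hcon
  obtain ⟨d1, hd1⟩ := hne i
  obtain ⟨u, rfl⟩ := htr d d1
  set w : U := u⁻¹ * α i u with hw
  have hwn : nrm (α i) (n i) w = 1 := nrm_sub (hapow i) u
  have hwd : w • d ≠ d := by
    intro h1
    apply hd1
    rw [hact, hi]
    have h2 : α i u = u * w := by rw [hw]; group
    rw [h2, mul_smul, h1]
  have hmove : ∀ j, (x j d ≠ d ∨ j = i) → x j (w • d) ≠ w • d := by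
    intro j hj h1
    by_cases hji : j = i
    · rw [hji] at h1
      exact hwd (key (hco i) (hact i) hi hwn h1)
    · have hj' := hj.resolve_right hji
      apply hj'
      rw [hact] at h1
      have h2 : x j d = ((α j w)⁻¹ * w) • d := by rw [mul_smul, ← h1, inv_smul_smul]
      have h3 : nrm (α i) (n i) ((α j w)⁻¹ * w) = 1 := by
        rw [map_mul, map_inv, nrm_comm (hacomm i j), hwn, map_one, inv_one, one_mul]
      have h4 : x i (((α j w)⁻¹ * w) • d) = ((α j w)⁻¹ * w) • d := by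
        rw [← h2, hcomm i j, hi]
      rw [h2]
      exact key (hco i) (hact i) hi h3 h4
  have hlt : Set.ncard {j | x j d ≠ d} < Set.ncard {j | x j (w • d) ≠ w • d} := by
    refine Set.ncard_lt_ncard (ssubset_iff_subset_not_subset.2 ⟨fun j hj => hmove j (Or.inl hj), fun hsub => ?_⟩)
      (Set.toFinite _)
    exact hsub (show i ∈ {j | x j (w • d) ≠ w • d} from hmove i (Or.inr rfl)) hi
  have hle : Set.ncard {j | x j (w • d) ≠ w • d} ≤ Set.ncard {j | x j d ≠ d} := by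
    rw [← hn]
    exact le_csSup hbd ⟨w • d, rfl⟩
  omega

end moved

section cover

variable {G Ω ι : Type*} [Group G] [MulAction G Ω]

/-- **Abelian `U`, arbitrary orders.** -/
theorem cover_ab [Finite ι] {x : ι → G} {n : ι → ℕ} (hn : ∀ i, 0 < n i) (hx : ∀ i, x i ^ n i = 1)
    (hc : ∀ i j, x i * x j = x j * x i) {U : Subgroup G} [Finite U] {ω : Ω}
    (hcov : ∀ u ∈ U, ∃ i, x i • u • ω = u • ω) (hU : ∀ i, ∀ u ∈ U, x i * u * (x i)⁻¹ ∈ U)
    (hab : ∀ u ∈ U, ∀ v ∈ U, u * v = v * u) (hco : ∀ i, (n i).Coprime (Nat.card U)) :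
    ∃ i, ∀ u ∈ U, x i • u • ω = u • ω := by
  classical
  by_contra hcon
  push Not at hcon
  have hU' : ∀ i u, u ∈ U ↔ x i * u * (x i)⁻¹ ∈ U := by
    intro i u
    refine ⟨hU i u, fun h => ?_⟩
    have h1 : ∀ k : ℕ, x i ^ k * (x i * u * (x i)⁻¹) * (x i ^ k)⁻¹ ∈ U := by
      intro k
      induction k with
      | zero => simpa using h
      | succ k ih =>
        have h2 := hU i _ ih
        have h3 : x i * (x i ^ k * (x i * u * (x i)⁻¹) * (x i ^ k)⁻¹) * (x i)⁻¹ =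
            x i ^ (k + 1) * (x i * u * (x i)⁻¹) * (x i ^ (k + 1))⁻¹ := by
          rw [pow_succ']
          group
        rwa [h3] at h2
    obtain ⟨k, hk⟩ : ∃ k, n i = k + 1 := ⟨n i - 1, by have := hn i; omega⟩
    have h4 := h1 k
    have h5 : x i ^ k = (x i)⁻¹ := by
      rw [eq_inv_iff_mul_eq_one, ← pow_succ, ← hk]
      exact hx i
    rw [h5] at h4
    have h6 : (x i)⁻¹ * (x i * u * (x i)⁻¹) * ((x i)⁻¹)⁻¹ = u := by group
    rwa [h6] at h4
  let I := {i : ι // ∃ u ∈ U, x i • u • ω = u • ω}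
  have hpres : ∀ (i : I) (y : Ω), y ∈ MulAction.orbit U ω ↔ x i.1 • y ∈ MulAction.orbit U ω := by
    rintro ⟨i, u, hu, hi⟩ y
    constructor
    · rintro ⟨v, rfl⟩
      refine ⟨⟨x i * (v * u⁻¹) * (x i)⁻¹ * u, U.mul_mem (hU i _ (U.mul_mem v.2 (U.inv_mem hu))) hu⟩, ?_⟩
      change (x i * (v * u⁻¹) * (x i)⁻¹ * u) • ω = x i • (v : G) • ω
      have h1 : (x i)⁻¹ • u • ω = u • ω := by rw [inv_smul_eq_iff, hi]
      rw [mul_smul, mul_smul, h1, mul_smul, mul_smul, inv_smul_smul]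
    · rintro ⟨v, hv⟩
      change (v : G) • ω = x i • y at hv
      have h1 : (x i)⁻¹ * (v * u⁻¹) * x i ∈ U := by
        rw [hU' i]
        have h2 : x i * ((x i)⁻¹ * (v * u⁻¹) * x i) * (x i)⁻¹ = v * u⁻¹ := by group
        rw [h2]
        exact U.mul_mem v.2 (U.inv_mem hu)
      refine ⟨⟨(x i)⁻¹ * (v * u⁻¹) * x i * u, U.mul_mem h1 hu⟩, ?_⟩
      change ((x i)⁻¹ * (v * u⁻¹) * x i * u) • ω = y
      rw [mul_smul, mul_smul, hi, mul_smul, mul_smul, inv_smul_smul, hv, inv_smul_smul]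
  let y : I → Equiv.Perm (MulAction.orbit U ω) := fun i =>
    { toFun := fun d => ⟨x i.1 • (d : Ω), (hpres i d).1 d.2⟩
      invFun := fun d => ⟨(x i.1)⁻¹ • (d : Ω), (hpres i _).2 (by rw [smul_inv_smul]; exact d.2)⟩
      left_inv := fun d => Subtype.ext (inv_smul_smul _ _)
      right_inv := fun d => Subtype.ext (smul_inv_smul _ _) }
  have hαpow : ∀ (i : ι) (m : ℕ) (u : U), (((conjU (x i) (hU' i) ^ m) u : U) : G) = x i ^ m * u * (x i ^ m)⁻¹ := by
    intro i m
    induction m with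
    | zero => intro u; simp
    | succ m ih =>
      intro u
      rw [pow_succ, MulAut.mul_apply, ih, conjU_coe, pow_succ]
      group
  let _ : CommGroup U :=
    { (inferInstance : Group U) with mul_comm := fun a b => Subtype.ext (hab a a.2 b b.2) }
  have hno : Nonempty (MulAction.orbit U ω) := ⟨⟨ω, MulAction.mem_orbit_self _⟩⟩
  obtain ⟨d, hd⟩ : ∃ d : MulAction.orbit U ω, ∀ i : I, y i d ≠ d := by
    refine exists_moved_ab (x := y) (α := fun i : I => conjU (x i.1) (hU' i.1)) (n := fun i : I => n i.1)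
      ?_ ?_ ?_ ?_ (fun d d' => MulAction.exists_smul_eq U d d') (fun i => hco i.1) ?_
    · intro i j d
      apply Subtype.ext
      change x i.1 • x j.1 • (d : Ω) = x j.1 • x i.1 • (d : Ω)
      rw [← mul_smul, ← mul_smul, hc]
    · intro i j u
      apply Subtype.ext
      rw [conjU_coe, conjU_coe, conjU_coe, conjU_coe]
      have h1 := hc i.1 j.1
      have h2 : x i.1 * (x j.1 * (u : G) * (x j.1)⁻¹) * (x i.1)⁻¹ = (x i.1 * x j.1) * u * (x i.1 * x j.1)⁻¹ := by group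
      rw [h2, h1]
      group
    · intro i u d
      apply Subtype.ext
      change x i.1 • (u : G) • (d : Ω) = (x i.1 * u * (x i.1)⁻¹) • x i.1 • (d : Ω)
      rw [← mul_smul, ← mul_smul]
      group
    · intro i
      ext u
      rw [hαpow, hx]
      simp
    · intro i
      obtain ⟨u, hu, h1⟩ := hcon i.1
      exact ⟨⟨u • ω, ⟨⟨u, hu⟩, rfl⟩⟩, fun h2 => h1 (congrArg Subtype.val h2)⟩
  obtain ⟨u, hu⟩ := d.2
  have hu' : (u : G) • ω = d := hu
  obtain ⟨i, hi⟩ := hcov u u.2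
  rw [hu'] at hi
  have hiI : ∃ u ∈ U, x i • u • ω = u • ω := ⟨u, u.2, by rw [hu', hi]⟩
  exact hd ⟨i, hiI⟩ (Subtype.ext hi)

/-- points without a `U`-invariant property -/
theorem lr_ab [Finite ι] {x : ι → G} {n : ι → ℕ} (hn : ∀ i, 0 < n i) (hx : ∀ i, x i ^ n i = 1)
    (hc : ∀ i j, x i * x j = x j * x i) {U : Subgroup G} [Finite U] {P : Ω → Prop}
    (hP : ∀ u ∈ U, ∀ ω, P (u • ω) → P ω) (hcov : ∀ ω : Ω, P ω ∨ ∃ i, x i • ω = ω)
    (hU : ∀ i, ∀ u ∈ U, x i * u * (x i)⁻¹ ∈ U) (hab : ∀ u ∈ U, ∀ v ∈ U, u * v = v * u)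
    (hco : ∀ i, (n i).Coprime (Nat.card U)) (ω : Ω) : P ω ∨ ∃ i, ∀ u ∈ U, x i • u • ω = u • ω := by
  by_cases hω : P ω
  · exact Or.inl hω
  · right
    refine cover_ab hn hx hc (ω := ω) (fun u hu => ?_) hU hab hco
    rcases hcov (u • ω) with h | h
    · exact absurd (hP u hu ω h) hω
    · exact h

/-- points without a `U`-invariant property are fixed by a common commutator -/
theorem lr_ab' [Finite ι] {x : ι → G} {n : ι → ℕ} (hn : ∀ i, 0 < n i) (hx : ∀ i, x i ^ n i = 1)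
    (hc : ∀ i j, x i * x j = x j * x i) {U : Subgroup G} [Finite U] {P : Ω → Prop}
    (hP : ∀ u ∈ U, ∀ ω, P (u • ω) → P ω) (hcov : ∀ ω : Ω, P ω ∨ ∃ i, x i • ω = ω)
    (hU : ∀ i, ∀ u ∈ U, x i * u * (x i)⁻¹ ∈ U) (hab : ∀ u ∈ U, ∀ v ∈ U, u * v = v * u)
    (hco : ∀ i, (n i).Coprime (Nat.card U)) {y : G} (hy : ∀ i, y ∈ cmm U (x i)) (ω : Ω) : P ω ∨ y • ω = ω := by
  rcases lr_ab hn hx hc hP hcov hU hab hco ω with h | ⟨i, hi⟩
  · exact Or.inl h
  · exact Or.inr (comm_le hi (hy i))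

/-- **Point rule**, abelian `U`, arbitrary orders. -/
theorem not_cov_ab [Finite ι] [Nonempty Ω] {N : Subgroup G} (hE : Env G Ω N) {x : ι → G} {n : ι → ℕ}
    (hn : ∀ i, 0 < n i) (hx : ∀ i, x i ^ n i = 1) (hc : ∀ i j, x i * x j = x j * x i) (hcov : Cov Ω x)
    {U : Subgroup G} [Finite U] (hU : ∀ i, ∀ u ∈ U, x i * u * (x i)⁻¹ ∈ U) (hab : ∀ u ∈ U, ∀ v ∈ U, u * v = v * u)
    (hco : ∀ i, (n i).Coprime (Nat.card U)) {y : G} (hy1 : y ≠ 1) (hy : ∀ i, y ∈ cmm U (x i)) : False := by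
  refine hE.not_all hy1 fun ω => ?_
  obtain ⟨i, hi⟩ := cover_ab hn hx hc (ω := ω) (fun u _ => hcov _) hU hab hco
  exact comm_le hi (hy i)

/-- commutators of a product of members: `[U, x]` for an iterated commutator -/
theorem cmm_mono {U W : Subgroup G} (h : W ≤ U) (x : G) : cmm W x ≤ cmm U x := by
  rw [cmm, Subgroup.closure_le]
  rintro _ ⟨u, hu, rfl⟩
  exact mem_cmm (h hu)

end cover

end Cfsg.Agent.H67.RC
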