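import Cfsg.Agent.H520.RC.SpId
import Cfsg.Agent.H520.RC.SpLR
import Cfsg.Agent.S0254

/-!
# S3510, row D, box D4: all lifts preserve a nondegenerate subspace (helper67)
-/

set_option autoImplicit false
open Cfsg

namespace Cfsg.Agent.H67.RC

open MulAction Module Cfsg.Agent.H106.RC Cfsg.Agent.H520.RC Cfsg.Agent.H727.GW

section nine

variable {F V : Type*} [Field F] [AddCommGroup V] [Module F V] {B : LinearMap.BilinForm F V}

theorem isLin_inv {M : SS B} (h : M.IsLin) : M⁻¹.IsLin := by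
  show M⁻¹.σ = 1
  rw [SS.inv_σ, show M.σ = 1 from h, inv_one]

/-- a semisimilitude acting trivially on the isometry group is a scalar -/
theorem scal_of_cj [FiniteDimensional F V] (hB : NAlt B) (hd : 2 ≤ finrank F V) (M : SS B)
    (h : ∀ t : Sp B, SS.cj M t = t) : ∃ c : F, ∀ v, M v = c • v := by
  have h2 : ∀ v, ∃ c : F, M.f.toAddMonoidHom v = c • v := by
    intro v
    by_cases hv : v = 0
    · subst hv
      exact ⟨0, by rw [map_zero, smul_zero]⟩
    have h3 := h (tv hB v 1)
    rw [cj_tv, map_one, one_mul] at h3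
    obtain ⟨y, hy⟩ := hB.exists_ne (x := M v) (fun h0 => hv (M.injective (h0.trans M.map_zero.symm)))
    have hy' : B y (M v) ≠ 0 := fun h0 => hy (hB.swap0 h0)
    have h4 := congrArg (fun t : Sp B => t.1 y) h3
    change (tv hB (M v) M.l⁻¹).1 y = (tv hB v 1).1 y at h4
    rw [tv_apply, tv_apply, add_right_inj, one_mul] at h4
    have h5 : M.l⁻¹ * B y (M v) ≠ 0 := mul_ne_zero (inv_ne_zero M.hl) hy'
    refine ⟨(M.l⁻¹ * B y (M v))⁻¹ * B y v, ?_⟩
    show M v = _
    rw [mul_smul, ← h4, smul_smul, inv_mul_cancel₀ h5, one_smul]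
  exact scal_of_lines hd _ h2

/-- linear algebra: in characteristic three and dimension two, `P ^ 6` scalar gives `P ^ 2` or `P ^ 3` scalar -/
theorem six_nine [Finite F] [FiniteDimensional F V] (h9 : Nat.card F = 9) (hd : finrank F V = 2)
    (P : Module.End F V) {c : F} (hc : P ^ 6 = c • (1 : Module.End F V)) :
    (∃ d : F, P ^ 2 = d • (1 : Module.End F V)) ∨ ∃ d : F, P ^ 3 = d • (1 : Module.End F V) := by
  have : Fintype F := Fintype.ofFinite F
  have h3 : (3 : F) = 0 := by
    have h4 : ((Fintype.card F : ℕ) : F) = 0 := Nat.cast_card_eq_zero F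
    rw [← Nat.card_eq_fintype_card, h9] at h4
    have h5 : (3 : F) * 3 = 0 := by
      have : ((9 : ℕ) : F) = 3 * 3 := by norm_num
      rw [← this, h4]
    exact (mul_eq_zero.1 h5).elim id id
  have h3' : (3 : Module.End F V) = 0 := by
    have h4 : (3 : Module.End F V) = algebraMap F (Module.End F V) 3 := by rw [map_ofNat]
    rw [h4, h3, map_zero]
  have hcc : (c ^ 3) ^ 3 = c := by
    have h4 := FiniteField.pow_card c
    rw [← Nat.card_eq_fintype_card, h9] at h4
    rw [← pow_mul]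
    exact h4
  set N : Module.End F V := P ^ 2 - (c ^ 3) • 1 with hN
  have hcomm : Commute (P ^ 2) ((c ^ 3) • (1 : Module.End F V)) := (Commute.one_right _).smul_right _
  have hN3 : N ^ 3 = 0 := by
    have h4 : N ^ 3 = (P ^ 2) ^ 3 - ((c ^ 3) • (1 : Module.End F V)) ^ 3 -
        3 * (P ^ 2 * ((c ^ 3) • 1) * (P ^ 2 - (c ^ 3) • 1)) := by
      have h5 := hcomm.eq
      rw [hN]
      generalize (c ^ 3) • (1 : Module.End F V) = Z at *
      generalize P ^ 2 = Q at *
      have e1 : Z * Q * Z = Q * (Z * Z) := by rw [← h5, mul_assoc]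
      have e2 : Z * Z * Q = Q * (Z * Z) := by rw [mul_assoc, ← h5, ← mul_assoc, ← h5, mul_assoc]
      have e3 : Q * Z * Q = Q * Q * Z := by rw [mul_assoc, ← h5, ← mul_assoc]
      have e4 : Z * Q * Q = Q * Q * Z := by rw [← h5, e3]
      simp only [pow_succ, pow_zero, one_mul, mul_sub, sub_mul]
      rw [e1, e2, e3, e4]
      have e5 : (3 : Module.End F V) = 1 + 1 + 1 := by norm_num
      rw [e5]
      simp only [add_mul, one_mul, mul_assoc]
      abel
    rw [h4, h3', zero_mul, sub_zero, ← pow_mul, hc, smul_pow, one_pow, hcc, sub_self]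
  have hN2 : N ^ 2 = 0 := by
    have h4 : IsNilpotent N := ⟨3, hN3⟩
    have h5 := (LinearMap.isNilpotent_iff_charpoly N).1 h4
    have h6 := LinearMap.aeval_self_charpoly N
    rw [h5, hd, map_pow, Polynomial.aeval_X] at h6
    exact h6
  by_cases hN0 : N = 0
  · exact Or.inl ⟨c ^ 3, sub_eq_zero.1 hN0⟩
  right
  obtain ⟨v, hv⟩ : ∃ v, N v ≠ 0 := by
    by_contra hno
    push Not at hno
    exact hN0 (LinearMap.ext hno)
  have hNN : ∀ w, N (N w) = 0 := fun w => by
    have h4 := congrArg (fun f : Module.End F V => f w) hN2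
    simpa [pow_two] using h4
  have hPN : ∀ w, P (N w) = N (P w) := by
    intro w
    simp only [hN, LinearMap.sub_apply, LinearMap.smul_apply, Module.End.one_apply, map_sub, map_smul]
    rfl
  have hli : LinearIndependent F ![v, N v] := by
    rw [LinearIndependent.pair_iff]
    intro s t hst
    have h4 := congrArg N hst
    rw [map_add, map_smul, map_smul, hNN, smul_zero, add_zero, map_zero] at h4
    have hs : s = 0 := (smul_eq_zero.1 h4).resolve_right hv
    subst hs
    rw [zero_smul, zero_add] at hst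
    exact ⟨rfl, (smul_eq_zero.1 hst).resolve_right hv⟩
  have hspan : ∀ w, ∃ s t : F, w = s • v + t • N v := by
    intro w
    have h4 : Submodule.span F (Set.range ![v, N v]) = ⊤ :=
      hli.span_eq_top_of_card_eq_finrank' (by rw [Fintype.card_fin, hd])
    have h5 : w ∈ Submodule.span F (Set.range ![v, N v]) := by rw [h4]; trivial
    rw [Matrix.range_cons, Matrix.range_cons, Matrix.range_empty, Set.union_empty, Set.singleton_union,
      Submodule.mem_span_pair] at h5
    obtain ⟨s, t, h⟩ := h5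
    exact ⟨s, t, h.symm⟩
  obtain ⟨a, b, hab⟩ := hspan (P v)
  have hPNv : P (N v) = a • N v := by
    rw [hPN, hab, map_add, map_smul, map_smul, hNN, smul_zero, add_zero]
  refine ⟨a ^ 3, ?_⟩
  have h30 : ∀ w : V, (3 : F) • w = 0 := fun w => by rw [h3, zero_smul]
  have e1 : P (P v) = (a ^ 2) • v + (2 * a * b) • N v := by
    rw [hab, map_add, map_smul, map_smul, hab, hPNv]
    module
  have e2 : P (P (P v)) = (a ^ 3) • v := by
    rw [e1, map_add, map_smul, map_smul, hab, hPNv]
    have h4 := h30 ((a ^ 2 * b) • N v)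
    rw [smul_smul] at h4
    have h5 : a ^ 2 • (a • v + b • N v) + (2 * a * b) • a • N v = (a ^ 3) • v + (3 * (a ^ 2 * b)) • N v := by module
    rw [h5, h4, add_zero]
  have e3 : P (P (P (N v))) = (a ^ 3) • N v := by
    rw [hPNv, map_smul, hPNv, map_smul, map_smul, hPNv]
    module
  apply LinearMap.ext
  intro w
  obtain ⟨s, t, rfl⟩ := hspan w
  have e4 : ∀ w, (P ^ 3) w = P (P (P w)) := fun w => by
    rw [pow_succ, pow_succ, pow_one]; rfl
  rw [e4, map_add, map_add, map_add, map_smul, map_smul, map_smul, map_smul, map_smul, map_smul, e2, e3,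
    LinearMap.smul_apply, Module.End.one_apply]
  module

end nine

section mrule

variable {F V : Type*} [Field F] [AddCommGroup V] [Module F V] {B : LinearMap.BilinForm F V}

/-- the M-rule of helper520 for a general condition on the induced automorphisms -/
theorem mrule_gen {G : Type} [Group G] [Finite G] {Ω : Type} [MulAction G Ω] {N : Subgroup G} {ρ : ↥(Sp B) →* G}
    (E : SpEnv Ω N ρ) {X : Type} [Group X] [Finite X] (j : X →* Sp B)
    (hj : Function.Injective j) (hperf : commutator X = ⊤)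
    (h1 : IsSimpleGroup (X ⧸ Subgroup.center X)) (h2 : ¬ IsMulCommutative (X ⧸ Subgroup.center X))
    {ι : Type} [Finite ι] {x : ι → G} {r : ι → ℕ} {M : ι → SS B} (hl : ∀ i, Lf ρ (x i) (M i)) (hx : PF x r)
    (hcov : Cov Ω x) (hnorm : ∀ i (s : X), ∃ s', SS.cj (M i) (j s) = j s')
    (hg : ∀ g ∈ Subgroup.closure (Set.range x), ∀ α : MulAut (X ⧸ Subgroup.center X),
      (∀ s s' : X, ρ (j s') = g * ρ (j s) * g⁻¹ → α (QuotientGroup.mk s) = QuotientGroup.mk s') →
      RCe (X ⧸ Subgroup.center X) α) (ω : Ω) :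
    (∀ s, ρ (j s) • ω = ω) ∨ ∃ i, (∀ s, x i * ρ (j s) = ρ (j s) * x i) ∧ x i • ω = ω := by
  set f : X →* G := ρ.comp j with hf
  have hker : ∀ s, f s = 1 → s ∈ Subgroup.center X := by
    intro s hs
    rw [Subgroup.mem_center_iff]
    intro t
    apply hj
    rw [map_mul, map_mul]
    exact scal_central ((E.ker _).1 hs) (j t)
  set K : Subgroup G := f.range with hK
  have hKperf : ⁅K, K⁆ = K := by
    have h3 := Subgroup.map_commutator (⊤ : Subgroup X) ⊤ f
    rw [← commutator_def, hperf, ← MonoidHom.range_eq_map] at h3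
    exact h3.symm
  have hlift : ∀ m : K, ∃ s, f s = m := fun m => m.2
  let π : K →* X ⧸ Subgroup.center X :=
    { toFun := fun m => QuotientGroup.mk (hlift m).choose
      map_one' := by
        rw [QuotientGroup.eq_one_iff]
        exact hker _ (hlift 1).choose_spec
      map_mul' := fun m n => by
        rw [← QuotientGroup.mk_mul, QuotientGroup.eq]
        apply hker
        rw [map_mul, map_inv, map_mul, (hlift _).choose_spec, (hlift _).choose_spec, (hlift _).choose_spec]
        rw [Subgroup.coe_mul]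
        group }
  have hπ : ∀ s, π ⟨f s, s, rfl⟩ = QuotientGroup.mk s := by
    intro s
    show QuotientGroup.mk (hlift ⟨f s, s, rfl⟩).choose = _
    rw [QuotientGroup.eq]
    apply hker
    rw [map_mul, map_inv, (hlift _).choose_spec, inv_mul_cancel]
  have hπs : Function.Surjective π := by
    intro y
    obtain ⟨s, rfl⟩ := QuotientGroup.mk_surjective y
    exact ⟨_, hπ s⟩
  have hπk : π.ker ≤ Subgroup.center K := by
    rintro ⟨_, s, rfl⟩ hs
    rw [MonoidHom.mem_ker] at hs
    rw [hπ, QuotientGroup.eq_one_iff] at hs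
    rw [Subgroup.mem_center_iff]
    rintro ⟨_, t, rfl⟩
    apply Subtype.ext
    show f t * f s = f s * f t
    rw [← map_mul, ← map_mul, Subgroup.mem_center_iff.1 hs]
  have hnK : ∀ i, x i ∈ Subgroup.normalizer (K : Set G) := by
    intro i
    have h3 : ∀ m ∈ K, x i * m * (x i)⁻¹ ∈ K := by
      rintro _ ⟨s, rfl⟩
      obtain ⟨s', hs'⟩ := hnorm i s
      refine ⟨s', ?_⟩
      show ρ (j s') = x i * ρ (j s) * (x i)⁻¹
      rw [hl i, hs']
    rw [Subgroup.mem_normalizer_iff]
    intro m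
    refine ⟨fun hm => h3 m hm, fun hm => ?_⟩
    have h4 : ∀ n : ℕ, x i ^ n * (x i * m * (x i)⁻¹) * (x i ^ n)⁻¹ ∈ K := by
      intro n
      induction n with
      | zero => simpa using hm
      | succ n ih =>
        have h5 := h3 _ ih
        have h6 : x i * (x i ^ n * (x i * m * (x i)⁻¹) * (x i ^ n)⁻¹) * (x i)⁻¹ =
            x i ^ (n + 1) * (x i * m * (x i)⁻¹) * (x i ^ (n + 1))⁻¹ := by
          rw [pow_succ']
          group
        rwa [h6] at h5
    obtain ⟨n, hn⟩ : ∃ n, r i = n + 1 := ⟨r i - 1, by have := (hx.prime i).pos; omega⟩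
    have h4 := h4 n
    have h5 : x i ^ n = (x i)⁻¹ := by
      rw [eq_inv_iff_mul_eq_one, ← pow_succ, ← hn]
      exact hx.pow i
    rw [h5] at h4
    have h6 : (x i)⁻¹ * (x i * m * (x i)⁻¹) * ((x i)⁻¹)⁻¹ = m := by group
    rwa [h6] at h4
  have h3 := mrule h1 h2 x r hx.prime hx.inj hx.pow hx.comm K hKperf π hπs hπk hnK
    (fun g hg1 α hα => hg g hg1 α fun s s' hs => by
      have h4 := hα ⟨f s, s, rfl⟩ ⟨f s', s', rfl⟩ hs
      rwa [hπ, hπ] at h4) ω (fun m _ => hcov _)
  rcases h3 with h3 | ⟨i, h3, h4⟩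
  · exact Or.inl fun s => h3 ⟨s, rfl⟩
  · exact Or.inr ⟨i, fun s => h3 _ ⟨s, rfl⟩, h4⟩

end mrule

section nine2

variable {F V : Type} [Field F] [Finite F] [AddCommGroup V] [Module F V] [FiniteDimensional F V]
  {B : LinearMap.BilinForm F V}

/-- `A_6` as `Sp_2(9)` -/
theorem equiv_nine (hB : NAlt B) (hd : finrank F V = 2) (h9 : Nat.card F = 9) :
    Nonempty ((Sp B ⧸ Subgroup.center (Sp B)) ≃* alternatingGroup (Fin 6)) := by
  have : Fintype F := Fintype.ofFinite F
  obtain ⟨e⟩ := card_quot hB (m := 1) (by omega)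
  obtain ⟨e'⟩ := Cfsg.Agent.S0254.result (F := F) (by rw [← Nat.card_eq_fintype_card, h9])
  exact ⟨(e.trans (pspOne F)).trans e'⟩

/-- the automorphisms of `Sp_2(9)` induced by linear similitudes -/
theorem rce_nine (hB : NAlt B) (hd : finrank F V = 2) (h9 : Nat.card F = 9)
    (hA6 : ∀ g : MulAut (alternatingGroup (Fin 6)), orderOf g ≠ 6 → RCe (alternatingGroup (Fin 6)) g)
    (D : SS B) (hD : D.IsLin) (α : MulAut (Sp B ⧸ Subgroup.center (Sp B)))
    (hα : ∀ s : Sp B, α (QuotientGroup.mk s) = QuotientGroup.mk (SS.cj D s)) :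
    RCe (Sp B ⧸ Subgroup.center (Sp B)) α := by
  obtain ⟨e⟩ := equiv_nine hB hd h9
  have hpow : ∀ (n : ℕ) (s : Sp B), (α ^ n) (QuotientGroup.mk s) = QuotientGroup.mk (SS.cj (D ^ n) s) := by
    intro n
    induction n with
    | zero => intro s; rw [pow_zero, pow_zero, map_one]; rfl
    | succ n ih => intro s; rw [pow_succ', MulAut.mul_apply, ih, hα, pow_succ', map_mul]; rfl
  have hone : ∀ n : ℕ, (∃ d : F, ∀ v, (D ^ n) v = d • v) → α ^ n = 1 := by
    rintro n ⟨d, hd1⟩
    have hd0 : d ≠ 0 := by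
      rintro rfl
      have : Nontrivial V := Module.nontrivial_of_finrank_pos (R := F) (by omega)
      obtain ⟨w, hw⟩ := exists_ne (0 : V)
      apply hw
      apply (D ^ n).injective
      rw [hd1 w, zero_smul, (D ^ n).map_zero]
    apply MulEquiv.ext
    intro y
    obtain ⟨s, rfl⟩ := QuotientGroup.mk_surjective y
    rw [hpow, SS.cj_of_scal ⟨d, hd0, hd1⟩]
    rfl
  have hne : orderOf α ≠ 6 := by
    intro h6
    have h61 : α ^ 6 = 1 := by rw [← h6]; exact pow_orderOf_eq_one α
    -- the sixth power centralises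
    have hz : ∀ s : Sp B, SS.cj (D ^ 6) s * s⁻¹ ∈ Subgroup.center (Sp B) := by
      intro s
      have h1 := hpow 6 s
      rw [h61] at h1
      have h2 : (QuotientGroup.mk (SS.cj (D ^ 6) s) : Sp B ⧸ Subgroup.center (Sp B)) = QuotientGroup.mk s := h1.symm
      rw [← QuotientGroup.eq_one_iff, QuotientGroup.mk_mul, h2, ← QuotientGroup.mk_mul, mul_inv_cancel]
      rfl
    let φ : Sp B →* Sp B :=
      { toFun := fun s => SS.cj (D ^ 6) s * s⁻¹
        map_one' := by simp
        map_mul' := fun s t => by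
          have h3 := Subgroup.mem_center_iff.1 (hz t) (SS.cj (D ^ 6) s)
          have h4 := Subgroup.mem_center_iff.1 (hz t) s⁻¹
          calc SS.cj (D ^ 6) (s * t) * (s * t)⁻¹
              = SS.cj (D ^ 6) s * ((SS.cj (D ^ 6) t * t⁻¹) * s⁻¹) := by
                rw [map_mul, mul_inv_rev]; group
            _ = SS.cj (D ^ 6) s * s⁻¹ * (SS.cj (D ^ 6) t * t⁻¹) := by rw [← h4, mul_assoc] }
    have hperf := perfect_Sp hB (Or.inr (Or.inr (by rw [h9]; norm_num)))
    have h3 : commutator (Sp B) ≤ φ.ker := by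
      rw [commutator_def, Subgroup.commutator_le]
      intro a _ b _
      rw [MonoidHom.mem_ker, map_commutatorElement, commutatorElement_eq_one_iff_mul_comm]
      exact Subgroup.mem_center_iff.1 (hz b) (φ a)
    have h4 : ∀ t : Sp B, SS.cj (D ^ 6) t = t := by
      intro t
      have h5 : t ∈ commutator (Sp B) := by rw [hperf]; trivial
      exact mul_inv_eq_one.1 (h3 h5)
    obtain ⟨c, hc⟩ := scal_of_cj hB (by omega) _ h4
    have hDp : ∀ (n : ℕ) v, ((hD.lin : V →ₗ[F] V) ^ n : Module.End F V) v = (D ^ n) v := by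
      intro n
      induction n with
      | zero => intro v; rw [pow_zero, pow_zero]; rfl
      | succ n ih =>
        intro v
        rw [pow_succ', pow_succ', SS.mul_apply, ← ih]
        rfl
    rcases six_nine h9 hd (hD.lin : V →ₗ[F] V) (c := c) (LinearMap.ext fun v => by
      rw [hDp, hc]; rfl) with ⟨d, hd1⟩ | ⟨d, hd1⟩
    · have h5 := hone 2 ⟨d, fun v => by rw [← hDp, hd1]; rfl⟩
      have h7 := orderOf_dvd_of_pow_eq_one h5
      rw [h6] at h7
      omega
    · have h5 := hone 3 ⟨d, fun v => by rw [← hDp, hd1]; rfl⟩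
      have h7 := orderOf_dvd_of_pow_eq_one h5
      rw [h6] at h7
      omega
  have h5 := (hA6 ((MulAut.congr e) α) (by
    rw [show orderOf ((MulAut.congr e) α) = orderOf α from MulEquiv.orderOf_eq _ _]
    exact hne)).congr e.symm
  have h6 : (MulAut.congr e.symm) ((MulAut.congr e) α) = α := by
    apply MulEquiv.ext
    intro y
    simp [MulAut.congr]
  rwa [h6] at h5

end nine2

section main

variable {F : Type} {V : Type} [Field F] [Finite F] [AddCommGroup V] [Module F V] [FiniteDimensional F V]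
  {B : LinearMap.BilinForm F V} {G : Type} [Group G] [Finite G] {Ω : Type} [Finite Ω] [Nonempty Ω] [MulAction G Ω]
  {N : Subgroup G} {ρ : ↥(Sp B) →* G} {ι : Type} [Finite ι] {x : ι → G} {r : ι → ℕ} {M : ι → SS B}

/-- the embedding of the isometry group of a proper nondegenerate subspace is not surjective -/
theorem emb_not_surj (hB : NAlt B) {A : Submodule F V} (hA : NAlt (B.restrict A)) (hA1 : A ≠ ⊤) :
    ¬ Function.Surjective (emb hB hA) := by
  intro hs
  obtain ⟨v, hv⟩ : ∃ v, v ∉ A := by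
    by_contra hno
    push Not at hno
    exact hA1 (eq_top_iff.2 fun v _ => hno v)
  obtain ⟨c, d, hd, rfl⟩ := exists_decomp hB.alt A (sub_nd hA) v
  have hd0 : d ≠ 0 := by
    rintro rfl
    apply hv
    rw [add_zero]
    exact c.2
  obtain ⟨y, hy⟩ := hB.exists_ne hd0
  obtain ⟨c', d', hd', rfl⟩ := exists_decomp hB.alt A (sub_nd hA) y
  have h1 : B d (c' : V) = 0 := hB.swap0 (LinearMap.BilinForm.mem_orthogonal_iff.1 hd c' c'.2)
  rw [map_add, h1, zero_add] at hy
  obtain ⟨t, ht⟩ := hs (tv hB d 1)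
  have h2 := congrArg (fun s : Sp B => s.1 d') ht
  change (emb hB hA t).1 d' = (tv hB d 1).1 d' at h2
  rw [emb_apply_orth hB hA _ hd', tv_apply, eq_comm, add_eq_left, smul_eq_zero, one_mul] at h2
  rcases h2 with h2 | h2
  · exact hy (hB.swap0 h2)
  · exact hd0 h2

/-- **D4**: all lifts preserve a proper nondegenerate subspace `A`, no member of order `p` is a scalar on `A` -/
theorem dead_dec (E : SpEnv Ω N ρ) (hIH : IH (Nat.card N)) (h2 : (2 : F) ≠ 0) (hx : PF x r) (hcov : Cov Ω x)
    (hM : ∀ i, Lf ρ (x i) (M i)) (hl : ∀ i, (M i).IsLin) {A : Submodule F V} (hA0 : A ≠ ⊥) (hA1 : A ≠ ⊤)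
    (hA : ∀ a ∈ A, (∀ b ∈ A, B a b = 0) → a = 0) (hi : ∀ i, ∀ v ∈ A, M i v ∈ A)
    (hu : ∀ i, ¬ (r i).Coprime (Nat.card F) → ¬ (M i).ScalOn A)
    (hA6 : ∀ g : MulAut (alternatingGroup (Fin 6)), orderOf g ≠ 6 → RCe (alternatingGroup (Fin 6)) g)
    (hq : 4 ≤ finrank F A ∨ 5 < Nat.card F ∨
      (3 < Nat.card F ∧ ∀ i j, ¬ (M i).ScalOn A → ¬ (M j).ScalOn A → i = j)) : False := by
  have : Fintype F := Fintype.ofFinite F
  have : Finite V := Module.finite_of_finite F
  have hB := E.form
  have hA' : NAlt (B.restrict A) :=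
    ⟨fun x => hB.alt x, fun x h => Subtype.ext (hA x x.2 fun b hb => h ⟨b, hb⟩)⟩
  have hA0' : finrank F A ≠ 0 := by
    intro h
    exact hA0 (Submodule.finrank_eq_zero.1 h)
  obtain ⟨m, hm⟩ := exists_dim hA'
  have hcard3 : 3 ≤ Nat.card F := by
    have h3 : 1 < Nat.card F := Finite.one_lt_card
    rcases Nat.lt_or_ge 2 (Nat.card F) with h | h
    · exact h
    · exfalso
      apply h2
      have h4 : ((Fintype.card F : ℕ) : F) = 0 := Nat.cast_card_eq_zero F
      rw [← Nat.card_eq_fintype_card, show Nat.card F = 2 by omega] at h4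
      exact_mod_cast h4
  have h6A : 6 ≤ finrank F A ∨ (finrank F A = 4 ∧ 3 ≤ Nat.card F) ∨ (finrank F A ≠ 0 ∧ 4 ≤ Nat.card F) := by
    rcases hq with h | h | h
    · rcases Nat.lt_or_ge (finrank F A) 6 with h' | h'
      · right; left; exact ⟨by omega, hcard3⟩
      · left; exact h'
    · right; right; exact ⟨hA0', by omega⟩
    · right; right; exact ⟨hA0', by omega⟩
  have hperf : commutator (Sp (B.restrict A)) = ⊤ := perfect_Sp hA' (by
    rcases h6A with h | h | h
    · exact Or.inl h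
    · exact Or.inr (Or.inl h)
    · exact Or.inr (Or.inr h.2))
  have hfE : Finite (A ≃ₗ[F] A) := by
    have : Finite A := Subtype.finite
    exact Finite.of_injective (fun f : A ≃ₗ[F] A => (f : A → A)) DFunLike.coe_injective
  have hfS : Finite (Sp (B.restrict A)) := Subtype.finite
  have hs1 := simple_Sp hA' h6A
  have hs2 := ncomm_Sp hA' h6A
  have hperfB : commutator (Sp B) = ⊤ := perfect_Sp hB (by
    have := E.dim
    obtain ⟨k, hk⟩ := exists_dim hB
    rcases Nat.lt_or_ge (finrank F V) 6 with h' | h'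
    · right; left; exact ⟨by omega, hcard3⟩
    · left; exact h')
  have hcent : ∀ i, (∀ s, x i * ρ (emb hB hA' s) = ρ (emb hB hA' s) * x i) ↔ (M i).ScalOn A := by
    intro i
    rw [E.cent_iff (hM i) (emb hB hA') hperf]
    constructor
    · intro h
      have h3 : ∀ t : Sp (B.restrict A), SS.cj ((M i).res A (hi i)) t = t := by
        intro t
        apply SS.cj_eq
        intro v
        apply Subtype.ext
        rw [← emb_apply_mem hB hA', SS.res_apply, SS.res_apply, ← emb_apply_mem hB hA', h]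
      obtain ⟨c, hc⟩ := scal_of_cj hA' (by omega) _ h3
      have hc' : ∀ v ∈ A, M i v = c • v := fun v hv => congrArg Subtype.val (hc ⟨v, hv⟩)
      refine ⟨c, ?_, hc'⟩
      rintro rfl
      apply hA0
      rw [eq_bot_iff]
      intro v hv
      rw [Submodule.mem_bot]
      apply (M i).injective
      rw [hc' v hv, zero_smul, (M i).map_zero]
    · rintro ⟨c, hc0, hc⟩ s v
      obtain ⟨a, d, hd, rfl⟩ := exists_decomp hB.alt A (sub_nd hA') v
      rw [map_add, (M i).map_add, (M i).map_add, map_add, emb_apply_orth hB hA' _ hd,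
        emb_apply_orth hB hA' _ ((M i).orth_mem A (hi i) hd), emb_apply_mem hB hA', hc _ (Subtype.mem _),
        hc _ a.2, map_smul, emb_apply_mem hB hA']
  have hnorm : ∀ i (s : Sp (B.restrict A)), ∃ s', SS.cj (M i) (emb hB hA' s) = emb hB hA' s' :=
    fun i s => ⟨_, cj_emb hB hA' (M i) (hi i) s⟩
  have hmain : ∀ ω : Ω, (∀ s, ρ (emb hB hA' s) • ω = ω) ∨
      ∃ i, (∀ s, x i * ρ (emb hB hA' s) = ρ (emb hB hA' s) * x i) ∧ x i • ω = ω := by
    intro ω
    by_cases h9 : finrank F A = 2 ∧ Nat.card F = 9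
    · refine mrule_gen E (emb hB hA') (emb_injective hB hA') hperf hs1 hs2 hM hx hcov hnorm ?_ ω
      intro g hg α hα
      have hgL : ∃ L : SS B, Lf ρ g L ∧ L.IsLin ∧ ∀ v ∈ A, L v ∈ A := by
        refine Subgroup.closure_induction (p := fun g _ => ∃ L : SS B, Lf ρ g L ∧ L.IsLin ∧ ∀ v ∈ A, L v ∈ A)
          ?_ ?_ ?_ ?_ hg
        · rintro _ ⟨i, rfl⟩
          exact ⟨M i, hM i, hl i, hi i⟩
        · exact ⟨1, Lf.one, SS.isLin_one, fun v hv => hv⟩
        · rintro a b _ _ ⟨L, h3, h4, h5⟩ ⟨L', h3', h4', h5'⟩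
          exact ⟨L * L', h3.mul h3', h4.mul h4', fun v hv => h5 _ (h5' v hv)⟩
        · rintro a _ ⟨L, h3, h4, h5⟩
          refine ⟨L⁻¹, h3.inv, isLin_inv h4, fun v hv => L.mem_of_mem A h5 ?_⟩
          rw [SS.apply_inv_self]
          exact hv
      obtain ⟨L, hL1, hL2, hL3⟩ := hgL
      refine rce_nine hA' h9.1 h9.2 hA6 (L.res A hL3) hL2 α fun s => ?_
      apply hα
      rw [hL1, cj_emb hB hA' L hL3]
    · refine E.mrule hIH (emb hB hA') (emb_injective hB hA') (E.range_ne hperfB _ (emb_not_surj hB hA' hA1)) hperf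
        hs1 hs2 hM hx hcov hnorm ?_ ω
      rcases hq with h | h | h
      · left
        have h' : 6 ≤ finrank F A ∨ (finrank F A = 4 ∧ 3 ≤ Nat.card F) := by omega
        exact ⟨cl_Sp hA' h6A, not_exc_Sp hA' h'⟩
      · left
        refine ⟨cl_Sp hA' h6A, ?_⟩
        by_cases h4 : finrank F A = 2
        · exact not_exc_Sp2 hA' h4 (by omega) (by omega) (fun h' => h9 ⟨h4, h'⟩)
        · exact not_exc_Sp hA' (by omega)
      · right
        by_cases hno : ∀ i, (M i).ScalOn A
        · obtain ⟨ω0⟩ := ‹Nonempty Ω›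
          obtain ⟨i0, -⟩ := hcov ω0
          exact ⟨i0, fun i _ => (hcent i).2 (hno i)⟩
        · push Not at hno
          obtain ⟨i0, h0⟩ := hno
          refine ⟨i0, fun i hne => (hcent i).2 ?_⟩
          by_contra h4
          exact hne (h.2 i i0 h4 h0)
  -- the end
  obtain ⟨e, heA, he0⟩ := Submodule.exists_mem_ne_zero_of_ne_bot hA0
  refine lr_tv (ι := {i : ι // (M i).ScalOn A}) (x := fun i => x i) (r := fun i => r i) (M := fun i => M i) E h2
    (fun i => hx.prime i) (fun i => hx.pow i) (fun i j => hx.comm i j) (fun i => hx.ne i) (fun i => hM i) he0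
    one_ne_zero (fun ω => ?_) (fun i => ?_) (fun i => ?_)
  · rcases hmain ω with h | ⟨i, h3, h4⟩
    · left
      have h5 := h (tv hA' ⟨e, heA⟩ 1)
      rwa [emb_tv] at h5
    · exact Or.inr ⟨⟨i, (hcent i).1 h3⟩, h4⟩
  · obtain ⟨c, -, hc⟩ := i.2
    exact ⟨c, hc e heA⟩
  · by_contra hno
    exact hu i hno i.2

end main

end Cfsg.Agent.H67.RC
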