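import Cfsg.Agent.H194.RC.SpEx
import Cfsg.Agent.H327.RC.Semi
import Cfsg.Agent.H711.RC.Three
import Cfsg.Agent.H810.RC.DeadFive
import Cfsg.Agent.H916.RC.RceA6

/-!
# S3510: the row `PSp_{2m}(q)`, `q` odd (helper67)

All boxes: helper8, 31, 194, 236, 327, 368, 520, 544, 579, 686, 711, 810, 916 and others; plan `tools/plans/S3510_D.md`.
-/

set_option autoImplicit false
open Cfsg

namespace Cfsg.Agent.H67.RC

open Module Cfsg.Agent.H106.RC Cfsg.Agent.H520.RC

/-- **`PSp_{2m}(q)`, `q` odd** -/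
theorem row_psp_odd (S : Type) [Group S] [Finite S] (hS : IsSimpleGroup S) (hn : ¬ IsMulCommutative S)
    (m : ℕ) (hm : 2 ≤ m) (F : Type) [Field F] [Fintype F] (h2 : (2 : F) ≠ 0) (e : S ≃* PSp m F)
    (hIH : IH (Nat.card S)) : RC S := by
  have h3F : 3 ≤ Fintype.card F := by
    have h1 : 1 < Fintype.card F := Fintype.one_lt_card
    by_contra h
    have h3 : Fintype.card F = 2 := by omega
    have h4 := Nat.cast_card_eq_zero F
    rw [h3] at h4
    exact h2 (by exact_mod_cast h4)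
  apply rc_of_noCov hS hn
  intro G _ _ Ω _ _ _ N hE eN ι _ x r hx hcov _
  obtain ⟨B, ρ, E⟩ := Cfsg.Agent.H194.RC.exists_spEnv hm (fun _ => h3F) (Or.inr h2) hE (eN.trans e)
  choose M hM using fun i => E.lift (x i)
  have hIH' : IH (Nat.card N) := by rwa [Nat.card_congr eN.toEquiv]
  by_cases hl : ∀ i, (M i).IsLin
  · by_cases hex : Nat.card F = 3 ∧ finrank F (Fin m ⊕ Fin m → F) = 4
    · exact Cfsg.Agent.H711.RC.dead_three E hx hcov hex.1 hex.2
    · exact Cfsg.Agent.H810.RC.dead_lin_all E hIH' h2 hx hcov hM hl Cfsg.Agent.H916.RC.rce_A6 hex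
  · push Not at hl
    obtain ⟨i0, hi0⟩ := hl
    exact Cfsg.Agent.H327.RC.dead_semi E hIH' h2 hx hcov hM i0 hi0

end Cfsg.Agent.H67.RC
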